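import Cfsg.Agent.Lib.Helper14.PG63.Defs

/-!
# PG63 (S3664), package [FPF]

The elements of order 13 of `Sz(8)` have no nonzero fixed point on `W = M₄(F₈)` under
`X ↦ t * X * (t^(2))ᵀ`: the minimal polynomials of `t` and of `(t^(2))ᵀ⁻¹` are coprime.
-/

set_option autoImplicit false

namespace Cfsg.Agent.Lib.Helper79.PG63

open Cfsg.Agent.Lib.Helper14.PG63 Matrix Polynomial

universe u

/-- The Bezout certificate: `A * m + B * m' = 1` when `c ^ 3 = c ^ 2 + 1` and `2 = 0`. -/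
theorem bezout_cert {R : Type*} [CommRing R] (c x : R) (hc : c ^ 3 = c ^ 2 + 1)
    (h2 : (2 : R) = 0) :
    ((1 + c + c ^ 2) + (1 + c + c ^ 2) * x ^ 2 + (1 + c) * x ^ 3)
        * (x ^ 4 + c * x ^ 3 + c ^ 4 * x ^ 2 + c * x + 1)
      + ((c + c ^ 2) + x + (1 + c) * x ^ 3)
        * (x ^ 4 + c ^ 2 * x ^ 3 + c * x ^ 2 + c ^ 2 * x + 1) = 1 := by
  linear_combination (3 * x ^ 1 + 5 * x ^ 2 + 4 * x ^ 3 + 5 * x ^ 4 + 3 * x ^ 5 + 1 * x ^ 6 + 1 * c ^ 1 * x ^ 1 + 3 * c ^ 1 * x ^ 2 + 1 * c ^ 1 * x ^ 3 + 3 * c ^ 1 * x ^ 4 + 2 * c ^ 1 * x ^ 5 + 2 * c ^ 2 * x ^ 2 + 2 * c ^ 2 * x ^ 4 + 1 * c ^ 2 * x ^ 5 + 1 * c ^ 3 * x ^ 2 + 1 * c ^ 3 * x ^ 4) * hc + (2 * x ^ 1 + 3 * x ^ 2 + 3 * x ^ 3 + 3 * x ^ 4 + 2 * x ^ 5 + 1 * x ^ 6 + 1 * x ^ 7 + 1 * c ^ 1 + 1 * c ^ 1 * x ^ 1 + 2 * c ^ 1 * x ^ 2 + 3 * c ^ 1 * x ^ 3 + 3 * c ^ 1 * x ^ 4 + 2 * c ^ 1 * x ^ 5 + 1 * c ^ 1 * x ^ 6 + 1 * c ^ 1 * x ^ 7 + 1 * c ^ 2 + 2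 * c ^ 2 * x ^ 1 + 5 * c ^ 2 * x ^ 2 + 3 * c ^ 2 * x ^ 3 + 6 * c ^ 2 * x ^ 4 + 3 * c ^ 2 * x ^ 5 + 2 * c ^ 2 * x ^ 6) * h2

/-- The Bezout certificate evaluated at a matrix. -/
theorem bezout_mat {F : Type u} [Field F] [CharP F 2] (t : Matrix (Fin 4) (Fin 4) F) (c : F)
    (hc : c ^ 3 = c ^ 2 + 1) :
    ((1 + c + c ^ 2) • (1 : Matrix (Fin 4) (Fin 4) F) + (1 + c + c ^ 2) • t ^ 2
          + (1 + c) • t ^ 3)
        * (t ^ 4 + c • t ^ 3 + c ^ 4 • t ^ 2 + c • t + 1)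
      + ((c + c ^ 2) • (1 : Matrix (Fin 4) (Fin 4) F) + t + (1 + c) • t ^ 3)
        * (t ^ 4 + c ^ 2 • t ^ 3 + c • t ^ 2 + c ^ 2 • t + 1) = 1 := by
  have h2 : (2 : F[X]) = 0 := by
    have : (2 : F) = 0 := CharTwo.two_eq_zero
    rw [show (2 : F[X]) = C (2 : F) from (map_ofNat C 2).symm, this, C_0]
  have hcC : (C c : F[X]) ^ 3 = (C c) ^ 2 + 1 := by
    rw [← C_pow, hc, C_add, C_pow, C_1]
  have h := congrArg (aeval t) (bezout_cert (C c : F[X]) X hcC h2)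
  simp only [map_add, map_mul, map_pow, aeval_X, aeval_C, map_one] at h
  simp only [Algebra.smul_def, map_add, map_pow, map_one, mul_one]
  exact h

/-- [FPF]. -/
theorem pkgFpf : PkgFpf.{u} := by
  intro hCH hCls hPMap F _ _ _ hcard t X ht h13 ht1 hfix
  have hc8 : t.trace ^ 8 = t.trace := by
    rw [← hcard]; exact FiniteField.pow_card _
  rcases hCls hcard t ht with ⟨_, h4⟩ | ⟨_, h5⟩ | ⟨_, h7⟩ | ⟨hc, _⟩
  · exfalso
    apply ht1
    have e : t ^ 13 = (t ^ 4) ^ 3 * t := by rw [← pow_mul, ← pow_succ]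
    rw [h4, one_pow, one_mul] at e
    rw [← e]; exact h13
  · exfalso
    apply ht1
    have e : t ^ 13 = (t ^ 5) ^ 2 * t ^ 3 := by rw [← pow_mul, ← pow_add]
    rw [h5, one_pow, one_mul] at e
    have h3 : t ^ 3 = 1 := by rw [← e]; exact h13
    have e2 : t ^ 5 = t ^ 3 * t ^ 2 := by rw [← pow_add]
    rw [h3, one_mul] at e2
    have h2 : t ^ 2 = 1 := by rw [← e2]; exact h5
    have e3 : t ^ 3 = t ^ 2 * t := by rw [← pow_succ]
    rw [h2, one_mul] at e3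
    rw [← e3]; exact h3
  · exfalso
    apply ht1
    have e : t ^ 13 = t ^ 7 * t ^ 6 := by rw [← pow_add]
    rw [h7, one_mul] at e
    have h6 : t ^ 6 = 1 := by rw [← e]; exact h13
    have e2 : t ^ 7 = t ^ 6 * t := by rw [← pow_succ]
    rw [h6, one_mul] at e2
    rw [← e2]; exact h7
  · -- the main case
    have hCHt := hCH hcard t ht
    have hs : Pred (sqm F t) := by
      rw [sqm_eq]; exact hPMap (frobenius F 2) t ht
    have htr : (sqm F t).trace = t.trace ^ 2 := by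
      rw [sqm_eq]
      simp only [Matrix.trace, Matrix.diag_apply, Matrix.map_apply]
      rw [← map_sum]
      rfl
    have hCHs := hCH hcard (sqm F t) hs
    rw [htr] at hCHs
    have hc24 : (t.trace ^ 2) ^ 4 = t.trace := by rw [← pow_mul]; exact hc8
    rw [hc24] at hCHs
    have hCHv : ((sqm F t)ᵀ) ^ 4 + t.trace ^ 2 • ((sqm F t)ᵀ) ^ 3 + t.trace • ((sqm F t)ᵀ) ^ 2
        + t.trace ^ 2 • (sqm F t)ᵀ + 1 = 0 := by
      have := congrArg Matrix.transpose hCHs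
      simpa only [Matrix.transpose_add, Matrix.transpose_smul, Matrix.transpose_pow,
        Matrix.transpose_one, Matrix.transpose_zero] using this
    have hk : ∀ k : ℕ, t ^ k * X * ((sqm F t)ᵀ) ^ k = X := by
      intro k
      induction k with
      | zero => simp
      | succ k ih =>
        rw [pow_succ t, pow_succ' ((sqm F t)ᵀ)]
        calc t ^ k * t * X * ((sqm F t)ᵀ * ((sqm F t)ᵀ) ^ k)
            = t ^ k * (t * X * (sqm F t)ᵀ) * ((sqm F t)ᵀ) ^ k := by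
              simp only [Matrix.mul_assoc]
          _ = X := by rw [hfix, ih]
    have hm' : (t ^ 4 + t.trace ^ 2 • t ^ 3 + t.trace • t ^ 2 + t.trace ^ 2 • t + 1) * X = 0 := by
      have h0 : t ^ 4 * X * (((sqm F t)ᵀ) ^ 4 + t.trace ^ 2 • ((sqm F t)ᵀ) ^ 3
          + t.trace • ((sqm F t)ᵀ) ^ 2 + t.trace ^ 2 • (sqm F t)ᵀ + 1) = 0 := by
        rw [hCHv, Matrix.mul_zero]
      have e4 := hk 4
      have f3 : t ^ 4 * X * ((sqm F t)ᵀ) ^ 3 = t * X := by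
        calc t ^ 4 * X * ((sqm F t)ᵀ) ^ 3 = t * (t ^ 3 * X * ((sqm F t)ᵀ) ^ 3) := by
              rw [pow_succ' t 3]; simp only [Matrix.mul_assoc]
          _ = t * X := by rw [hk 3]
      have f2 : t ^ 4 * X * ((sqm F t)ᵀ) ^ 2 = t ^ 2 * X := by
        calc t ^ 4 * X * ((sqm F t)ᵀ) ^ 2 = t ^ 2 * (t ^ 2 * X * ((sqm F t)ᵀ) ^ 2) := by
              rw [show t ^ 4 = t ^ 2 * t ^ 2 from by rw [← pow_add]]
              simp only [Matrix.mul_assoc]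
          _ = t ^ 2 * X := by rw [hk 2]
      have f1 : t ^ 4 * X * (sqm F t)ᵀ = t ^ 3 * X := by
        have e1 := hk 1
        rw [pow_one, pow_one] at e1
        calc t ^ 4 * X * (sqm F t)ᵀ = t ^ 3 * (t * X * (sqm F t)ᵀ) := by
              rw [pow_succ t 3]; simp only [Matrix.mul_assoc]
          _ = t ^ 3 * X := by rw [e1]
      rw [Matrix.mul_add, Matrix.mul_add, Matrix.mul_add, Matrix.mul_add, Matrix.mul_one,
        Matrix.mul_smul, Matrix.mul_smul, Matrix.mul_smul, e4, f3, f2, f1] at h0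
      rw [Matrix.add_mul, Matrix.add_mul, Matrix.add_mul, Matrix.add_mul, Matrix.one_mul,
        Matrix.smul_mul, Matrix.smul_mul, Matrix.smul_mul]
      rw [← h0]
      abel
    have hm : (t ^ 4 + t.trace • t ^ 3 + t.trace ^ 4 • t ^ 2 + t.trace • t + 1) * X = 0 := by
      rw [hCHt, Matrix.zero_mul]
    have hbez := bezout_mat t t.trace hc
    calc X = 1 * X := (Matrix.one_mul X).symm
      _ = (((1 + t.trace + t.trace ^ 2) • (1 : Matrix (Fin 4) (Fin 4) F)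
              + (1 + t.trace + t.trace ^ 2) • t ^ 2 + (1 + t.trace) • t ^ 3)
            * (t ^ 4 + t.trace • t ^ 3 + t.trace ^ 4 • t ^ 2 + t.trace • t + 1)
          + ((t.trace + t.trace ^ 2) • (1 : Matrix (Fin 4) (Fin 4) F) + t
              + (1 + t.trace) • t ^ 3)
            * (t ^ 4 + t.trace ^ 2 • t ^ 3 + t.trace • t ^ 2 + t.trace ^ 2 • t + 1)) * X := by
          rw [hbez]
      _ = 0 := by
          rw [Matrix.add_mul, Matrix.mul_assoc, Matrix.mul_assoc, hm, hm', Matrix.mul_zero,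
            Matrix.mul_zero, add_zero]

end Cfsg.Agent.Lib.Helper79.PG63
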