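import Cfsg.Agent.Lib.Helper14.PG63.Defs

/-!
# PG63 (S3664), package [LFPF]

The elements of order 13 of `L = Sz(8) ⋊ ⟨frobenius⟩` have no nonzero fixed point on
`W = M₄(F₈)`: such an element lies in `Sz(8)` (its image in `⟨frobenius⟩`, of order 3, is
trivial), and [FPF] applies.
-/

set_option autoImplicit false

namespace Cfsg.Agent.Lib.Helper79.PG63

open Cfsg.Agent.Lib.Helper14.PG63 Matrix

universe u

/-- [LFPF]. -/
theorem pkgLFpf : PkgLFpf.{u} := by
  intro hStr _ hFrob hFpf F _ _ _ hcard x hx X hX
  obtain ⟨hPred, hmem⟩ := hStr hcard (x : Amb F) x.2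
  obtain ⟨hfrob3, _⟩ := hFrob (F := F) hcard
  have hy13 : orderOf (x : Amb F) = 13 := by rw [Subgroup.orderOf_coe]; exact hx
  have hy : (x : Amb F) ^ 13 = 1 := by rw [← hy13]; exact pow_orderOf_eq_one _
  have hyne : (x : Amb F) ≠ 1 := by
    intro h
    rw [h, orderOf_one] at hy13
    norm_num at hy13
  -- the field automorphism part is trivial
  have hτ13 : (x : Amb F).right ^ 13 = 1 := by
    have := congrArg SemidirectProduct.right hy
    rw [← SemidirectProduct.rightHom_eq_right, map_pow] at this
    simpa using this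
  have hτ : (x : Amb F).right = 1 := by
    have h1 : orderOf (x : Amb F).right ∣ 13 := orderOf_dvd_of_pow_eq_one hτ13
    have h2 : orderOf (x : Amb F).right ∣ 3 := by
      rw [← hfrob3]; exact orderOf_dvd_of_mem_zpowers hmem
    have h3 : orderOf (x : Amb F).right ∣ Nat.gcd 13 3 := Nat.dvd_gcd h1 h2
    have h4 : orderOf (x : Amb F).right = 1 := by
      have : Nat.gcd 13 3 = 1 := by norm_num
      rw [this] at h3
      exact Nat.dvd_one.mp h3
    exact orderOf_eq_one_iff.mp h4
  have hinl : (x : Amb F) = SemidirectProduct.inl (x : Amb F).left := by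
    apply SemidirectProduct.ext
    · simp
    · simp [hτ]
  have hg13 : (x : Amb F).left ^ 13 = 1 := by
    have h := hy
    rw [hinl, ← map_pow] at h
    have h' : (SemidirectProduct.inl ((x : Amb F).left ^ 13) : Amb F)
        = SemidirectProduct.inl 1 := by rw [h, map_one]
    exact SemidirectProduct.inl_injective h'
  have hgne : (x : Amb F).left ≠ 1 := by
    intro h
    apply hyne
    rw [hinl, h, map_one]
  have ht13 : ((x : Amb F).left : Matrix (Fin 4) (Fin 4) F) ^ 13 = 1 := by
    have := congrArg (fun g : GL (Fin 4) F => (g : Matrix (Fin 4) (Fin 4) F)) hg13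
    simpa using this
  have htne : ((x : Amb F).left : Matrix (Fin 4) (Fin 4) F) ≠ 1 := by
    intro h
    apply hgne
    apply Units.ext
    simpa using h
  have hfix : ((x : Amb F).left : Matrix (Fin 4) (Fin 4) F) * X
      * (sqm F ((x : Amb F).left : Matrix (Fin 4) (Fin 4) F))ᵀ = X := by
    have h : (x : Amb F) • X = X := hX
    rw [smul_def, hτ] at h
    have h1 : X.map (1 : RingAut F) = X := by
      ext i j
      rfl
    rw [h1] at h
    exact h
  exact hFpf hcard _ X hPred ht13 htne hfix

end Cfsg.Agent.Lib.Helper79.PG63
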